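import Groth.Agent.Lib.GrpDeligne.Basic
import Groth.Agent.Lib.Rigidity.KernelPair
import Mathlib.AlgebraicGeometry.Sites.Fpqc
import Mathlib.CategoryTheory.Limits.Constructions.Over.Connected

/-!
# Factorisation through fppf homomorphisms; the degree kills the kernel
-/

universe u

open CategoryTheory Limits MonoidalCategory CartesianMonoidalCategory MonObj GrpObj AlgebraicGeometry

namespace GrothLib.GrpDeligne

variable {S : Scheme.{u}} {X Y Z N : Over S} [GrpObj X] [GrpObj Y]

theorem mono_of_isKernel {i : N ⟶ X} {f : X ⟶ Y} (hi : AlgGrp.IsKernel i f) : Mono i := by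
  have : Mono η[Y] := mono_of_mono_fac (show η[Y] ≫ toUnit Y = 𝟙 _ from toUnit_unique _ _)
  exact PullbackCone.mono_fst_of_is_pullback_of_mono hi.isLimit

theorem ker_comp_eq_one {i : N ⟶ X} {f : X ⟶ Y} (hi : AlgGrp.IsKernel i f) : i ≫ f = 1 := by
  rw [hi.w, Hom.one_def]

theorem exists_lift_ker {i : N ⟶ X} {f : X ⟶ Y} (hi : AlgGrp.IsKernel i f) {T : Over S} (a : T ⟶ X)
    (ha : a ≫ f = 1) : ∃ b : T ⟶ N, b ≫ i = a :=
  ⟨hi.lift a (toUnit T) (by rw [ha, Hom.one_def]), hi.lift_fst _ _ _⟩

/-- A group structure on a kernel. -/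
theorem exists_grpObj_kernel (f : X ⟶ Y) [IsMonHom f] (i : N ⟶ X) (hi : AlgGrp.IsKernel i f) :
    ∃ (_ : GrpObj N), IsMonHom i := by
  have := mono_of_isKernel hi
  let K : ∀ T : Over S, Subgroup (T ⟶ X) := fun T =>
    { carrier := {a | a ≫ f = 1}
      one_mem' := MonObj.one_comp f
      mul_mem' := fun {a b} (ha : a ≫ f = 1) (hb : b ≫ f = 1) => by
        show (a * b) ≫ f = 1
        rw [MonObj.mul_comp, ha, hb, _root_.one_mul]
      inv_mem' := fun {a} (ha : a ≫ f = 1) => by
        show a⁻¹ ≫ f = 1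
        rw [GrpObj.inv_comp, ha, inv_one] }
  let F : (Over S)ᵒᵖ ⥤ GrpCat :=
    { obj := fun T => GrpCat.of (K T.unop)
      map := fun {T T'} h => GrpCat.ofHom
        { toFun := fun a => ⟨h.unop ≫ a.1, by
            show (h.unop ≫ a.1) ≫ f = 1
            rw [Category.assoc, show a.1 ≫ f = 1 from a.2, MonObj.comp_one]⟩
          map_one' := Subtype.ext (MonObj.comp_one h.unop)
          map_mul' := fun a b => Subtype.ext (MonObj.comp_mul h.unop a.1 b.1) }
      map_id := fun T => GrpCat.hom_ext (MonoidHom.ext fun a => Subtype.ext (Category.id_comp a.1))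
      map_comp := fun h h' => GrpCat.hom_ext (MonoidHom.ext fun a => Subtype.ext (Category.assoc _ _ a.1)) }
  let α : (F ⋙ forget GrpCat).RepresentableBy N :=
    { homEquiv := fun {T} =>
        { toFun := fun b => ⟨b ≫ i, by
            show (b ≫ i) ≫ f = 1
            rw [Category.assoc, ker_comp_eq_one hi, MonObj.comp_one]⟩
          invFun := fun a => hi.lift a.1 (toUnit T) (by rw [show a.1 ≫ f = 1 from a.2, Hom.one_def])
          left_inv := fun b => (cancel_mono i).1 (hi.lift_fst _ _ _)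
          right_inv := fun a => Subtype.ext (hi.lift_fst _ _ _) }
      homEquiv_comp := fun h b => Subtype.ext (Category.assoc h b i) }
  letI : GrpObj N := GrpObj.ofRepresentableBy N F α
  refine ⟨inferInstance, ⟨?_, ?_⟩⟩
  · refine (hi.lift_fst _ _ _).trans ?_
    exact (MonObj.one_eq_one _).symm
  · refine (hi.lift_fst _ _ _).trans ?_
    show (fst N N ≫ i) * (snd N N ≫ i) = (i ⊗ₘ i) ≫ μ[X]
    rw [Hom.mul_def, lift_fst_comp_snd_comp]

/-- A homomorphism killing the kernel of a flat surjective quasi-compact homomorphism factors through it. -/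
theorem exists_factor [GrpObj Z] (f : X ⟶ Y) [IsMonHom f] [Flat f.left] [Surjective f.left] [QuasiCompact f.left]
    (i : N ⟶ X) (hi : AlgGrp.IsKernel i f) (h : X ⟶ Z) [IsMonHom h] (hh : i ≫ h = 1) :
    ∃ g : Y ⟶ Z, IsMonHom g ∧ f ≫ g = h := by
  have hK := Rigidity.isPullback_kernelPair f i hi
  have hc : ∀ {T : Scheme.{u}} (a b : T ⟶ X.left), a ≫ f.left = b ≫ f.left → a ≫ h.left = b ≫ h.left := by
    intro T a b hab
    have hb : b ≫ X.hom = a ≫ X.hom := by rw [← Over.w f, ← Category.assoc, ← hab, Category.assoc]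
    let T' : Over S := Over.mk (a ≫ X.hom)
    let a' : T' ⟶ X := Over.homMk a rfl
    let b' : T' ⟶ X := Over.homMk b hb
    have hab' : a' ≫ f = b' ≫ f := Over.OverMorphism.ext hab
    obtain ⟨l, hl1, hl2⟩ : ∃ l, l ≫ ((fst N X ≫ i) * snd N X) = a' ∧ l ≫ snd N X = b' :=
      ⟨hK.lift a' b' hab', hK.lift_fst _ _ _, hK.lift_snd _ _ _⟩
    have h1 : a' ≫ h = b' ≫ h := by
      rw [← hl1, ← hl2, Category.assoc, Category.assoc]
      congr 1
      rw [MonObj.mul_comp, Category.assoc, hh, MonObj.comp_one, _root_.one_mul]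
    exact congrArg CommaMorphism.left h1
  let g₀ := EffectiveEpi.desc f.left h.left fun a b hab => hc a b hab
  have hfac : f.left ≫ g₀ = h.left := EffectiveEpi.fac _ _ _
  let g : Y ⟶ Z := Over.homMk g₀ (by
    rw [← cancel_epi f.left, ← Category.assoc, hfac, Over.w h, Over.w f])
  have hfg : f ≫ g = h := Over.OverMorphism.ext hfac
  have hepi : Epi (f ⊗ₘ f) := by
    have : Epi ((Over.forget S).map (f ⊗ₘ f)) := by
      change Epi (f ⊗ₘ f).left
      have e : (f ⊗ₘ f).left = pullback.map X.hom X.hom Y.hom Y.hom f.left f.left (𝟙 S)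
          (by simp) (by simp) := Over.tensorHom_left f f
      rw [e]
      haveI : Flat (pullback.map X.hom X.hom Y.hom Y.hom f.left f.left (𝟙 S) (by simp) (by simp)) :=
        MorphismProperty.pullbackMap ‹_› ‹_› (Over.w f).symm (Over.w f).symm
      haveI : Surjective (pullback.map X.hom X.hom Y.hom Y.hom f.left f.left (𝟙 S) (by simp) (by simp)) :=
        MorphismProperty.pullbackMap ‹_› ‹_› (Over.w f).symm (Over.w f).symm
      haveI : QuasiCompact (pullback.map X.hom X.hom Y.hom Y.hom f.left f.left (𝟙 S) (by simp) (by simp)) :=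
        MorphismProperty.pullbackMap ‹_› ‹_› (Over.w f).symm (Over.w f).symm
      infer_instance
    exact (Over.forget S).epi_of_epi_map this
  refine ⟨g, ⟨?_, ?_⟩, hfg⟩
  · rw [← IsMonHom.one_hom f, Category.assoc, hfg, IsMonHom.one_hom]
  · rw [← cancel_epi (f ⊗ₘ f), ← Category.assoc, ← IsMonHom.mul_hom f, Category.assoc, hfg,
      IsMonHom.mul_hom, ← Category.assoc, tensorHom_comp_tensorHom, hfg]

theorem isMonHom_pow [GrpObj Z] [IsCommMonObj Z] (f : X ⟶ Z) [IsMonHom f] (n : ℕ) : IsMonHom (f ^ n) := by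
  refine ⟨?_, ?_⟩
  · rw [MonObj.comp_pow, IsMonHom.one_hom, MonObj.one_eq_one, one_pow]
  · have h : ∀ g : X ⟶ Z, (g ⊗ₘ g) ≫ μ[Z] = (fst X X ≫ g) * (snd X X ≫ g) := fun g => by
      rw [Hom.mul_def, lift_fst_comp_snd_comp]
    rw [h, MonObj.comp_pow, IsMonHom.mul_hom, h, MonObj.comp_pow, MonObj.comp_pow, _root_.mul_pow]

/-- The degree of a finite locally free homomorphism of commutative groups kills its kernel. -/
theorem kernel_pow_eq_one [IsCommMonObj X] (f : X ⟶ Y) [IsMonHom f] [IsFinite f.left] [Flat f.left]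
    [LocallyOfFinitePresentation f.left] (n : ℕ) (hn : ∀ s, Scheme.Hom.finrank f.left (η[Y].left s) = n)
    (i : N ⟶ X) (hi : AlgGrp.IsKernel i f) : i ^ n = 1 := by
  obtain ⟨_, _⟩ := exists_grpObj_kernel f i hi
  have := mono_of_isKernel hi
  have hpb : IsPullback i.left N.hom f.left η[Y].left := hi.map (Over.forget S)
  haveI : IsFinite N.hom := MorphismProperty.of_isPullback hpb ‹_›
  haveI : Flat N.hom := MorphismProperty.of_isPullback hpb ‹_›
  haveI : LocallyOfFinitePresentation N.hom := MorphismProperty.of_isPullback hpb ‹_›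
  haveI : IsCommMonObj N := by
    constructor
    rw [← cancel_mono i, Category.assoc, IsMonHom.mul_hom, ← Category.assoc, ← BraidedCategory.braiding_naturality,
      Category.assoc, IsCommMonObj.mul_comm]
  have h := pow_eq_one N n (fun s => (Scheme.Hom.finrank_of_isPullback _ _ _ _ hpb s).trans (hn s)) (𝟙 N)
  have h2 := congrArg (· ≫ i) h
  simpa [MonObj.pow_comp, MonObj.one_comp] using h2

/-- For a finite locally free surjective homomorphism of degree `n` of commutative groups, `[n]`
factors through it on both sides. -/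
theorem exists_dual_hom [IsCommMonObj X] [IsCommMonObj Y] (f : X ⟶ Y) [IsMonHom f] [IsFinite f.left]
    [Flat f.left] [LocallyOfFinitePresentation f.left] [Surjective f.left] (n : ℕ)
    (hn : ∀ s, Scheme.Hom.finrank f.left (η[Y].left s) = n) :
    ∃ g : Y ⟶ X, IsMonHom g ∧ f ≫ g = 𝟙 X ^ n ∧ g ≫ f = 𝟙 Y ^ n := by
  let N : Over S := pullback f η[Y]
  have hi : AlgGrp.IsKernel (pullback.fst f η[Y]) f := by
    have := IsPullback.of_hasPullback f η[Y]
    rwa [toUnit_unique (pullback.snd f η[Y]) (toUnit _)] at this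
  have hmon := isMonHom_pow (𝟙 X) n
  have hk := kernel_pow_eq_one f n hn _ hi
  obtain ⟨g, hg, hfg⟩ := exists_factor f _ hi ((𝟙 X) ^ n) (by rw [MonObj.comp_pow, Category.comp_id, hk])
  refine ⟨g, hg, hfg, ?_⟩
  have : Epi f := (Over.forget S).epi_of_epi_map (inferInstanceAs (Epi f.left))
  rw [← cancel_epi f, ← Category.assoc, hfg, MonObj.pow_comp, Category.id_comp, MonObj.comp_pow, Category.comp_id]

end GrothLib.GrpDeligne
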