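import Groth.Prelude.Def_EndRing
import Groth.Agent.Lib.GrpDeligne.Factor
import Groth.Agent.Lib.Rigidity.AbImage
import Groth.Agent.Lib.Rigidity.Isogeny

/-!
# Isogenies of abelian varieties divide a positive integer
-/

universe u

open CategoryTheory Limits MonoidalCategory CartesianMonoidalCategory MonObj GrpObj AlgebraicGeometry

namespace GrothLib.GrpDeligne

variable {K : Type u} [Field K]

theorem isIso_of_subsingleton {X : Scheme.{u}} (f : X ⟶ Spec (CommRingCat.of K)) [IsReduced X] [Subsingleton X]
    (e : Spec (CommRingCat.of K) ⟶ X) (he : e ≫ f = 𝟙 _) [IsSeparated f] : IsIso f := by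
  have : IsClosedImmersion (e ≫ f) := by rw [he]; infer_instance
  have : IsClosedImmersion e := IsClosedImmersion.of_comp e f
  have : Surjective e := ⟨fun y => ⟨IsLocalRing.closedPoint K, Subsingleton.elim _ _⟩⟩
  have := isIso_of_isClosedImmersion_of_surjective e
  exact ⟨e, by rw [← cancel_epi e, reassoc_of% he, Category.comp_id], he⟩

/-- A non-trivial endomorphism of a simple abelian variety is surjective. -/
theorem surjective_of_simple (A : Over (Spec (CommRingCat.of K))) [GrpObj A] [IsProper A.hom]
    [GeometricallyIntegral A.hom]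
    (hsimple : ∀ (B : Over (Spec (CommRingCat.of K))) [GrpObj B] [GeometricallyIntegral B.hom] (i : B ⟶ A) [IsMonHom i]
      [IsClosedImmersion i.left], Subsingleton B.left ∨ IsIso i)
    (φ : A ⟶ A) [IsMonHom φ] (hφ : φ ≠ 1) : Surjective φ.left := by
  obtain ⟨M, _, i, hi1, hi2, hM, hMi, hr, ψ, hψ⟩ := Rigidity.exists_image φ
  rcases hsimple M i with hsub | hiso
  · exfalso
    have := GeometricallyIntegral.isIntegral_of_subsingleton M.hom
    have : IsIso M.hom := isIso_of_subsingleton M.hom η[M].left (Over.w η[M])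
    apply hφ
    have h1 : ψ = toUnit A ≫ η[M] := by
      apply Over.OverMorphism.ext
      rw [← cancel_mono M.hom, Over.w, Over.w]
    rw [← hψ, h1, Category.assoc, IsMonHom.one_hom, Hom.one_def]
  · have : IsIso i.left := inferInstanceAs (IsIso ((Over.forget _).map i))
    exact ⟨Set.range_eq_univ.1 (hr ▸ Set.range_eq_univ.2 (i.left.surjective))⟩

/-- An isogeny of abelian varieties divides a positive integer on both sides. -/
theorem exists_dual_hom_of_surjective (A B : Over (Spec (CommRingCat.of K))) [GrpObj A] [GrpObj B]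
    [IsCommMonObj A] [IsCommMonObj B] [IsProper A.hom] [IsProper B.hom]
    [GeometricallyIntegral A.hom] [GeometricallyIntegral B.hom]
    (φ : A ⟶ B) [IsMonHom φ] [Surjective φ.left] [IsFinite φ.left] :
    ∃ (n : ℕ) (g : B ⟶ A), 0 < n ∧ IsMonHom g ∧ φ ≫ g = 𝟙 A ^ n ∧ g ≫ φ = 𝟙 B ^ n := by
  have := Rigidity.flat_of_isFinite A B φ
  have : IsLocallyNoetherian B.left := LocallyOfFiniteType.isLocallyNoetherian B.hom
  have : LocallyOfFinitePresentation φ.left := inferInstance
  have := GeometricallyIntegral.isIntegral_of_subsingleton B.hom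
  let y := η[B].left (IsLocalRing.closedPoint K)
  refine ⟨Scheme.Hom.finrank φ.left y, ?_⟩
  obtain ⟨g, hg⟩ := exists_dual_hom φ (Scheme.Hom.finrank φ.left y) fun s =>
    (Scheme.Hom.isLocallyConstant_finrank φ.left).apply_eq_of_preconnectedSpace _ _
  exact ⟨g, (Scheme.Hom.one_le_finrank_iff_surjective (f := φ.left)).2 ‹_› y, hg⟩

end GrothLib.GrpDeligne
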