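import Groth.Prelude.Def_Red
import Groth.Agent.Lib.Hopf.Deligne
import Mathlib.AlgebraicGeometry.Morphisms.FlatRank
import Mathlib.RingTheory.Finiteness.ModuleFinitePresentation

/-!
# Deligne's theorem for group schemes

A commutative finite locally free group scheme of constant rank `n` is killed by `n`.
-/

universe u

open CategoryTheory Limits MonoidalCategory CartesianMonoidalCategory MonObj GrpObj AlgebraicGeometry
open scoped TensorProduct

namespace GrothLib.GrpDeligne

variable {R : Type u} [CommRing R]

theorem isCocomm_of_commGroup {H : Type u} [CommRing H] [HopfAlgebra R H]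
    (h : ∀ (T : Type u) [CommRing T] [Algebra R T] (a b : WithConv (H →ₐ[R] T)), a * b = b * a) :
    Coalgebra.IsCocomm R H := by
  constructor
  ext x
  have h1 := DFunLike.congr_fun (congrArg WithConv.ofConv (h (H ⊗[R] H)
    (WithConv.toConv Algebra.TensorProduct.includeLeft)
    (WithConv.toConv Algebra.TensorProduct.includeRight))) x
  rw [AlgHom.convMul_apply, AlgHom.convMul_apply] at h1
  simp only [WithConv.ofConv_toConv] at h1
  change TensorProduct.comm R H H (Coalgebra.comul x) = Coalgebra.comul x
  refine Eq.trans ?_ (h1.symm.trans ?_)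
  · induction Coalgebra.comul (R := R) x using TensorProduct.induction_on with
    | zero => simp
    | tmul a b => simp
    | add a b ha hb => simp only [map_add, ha, hb]
  · induction Coalgebra.comul (R := R) x using TensorProduct.induction_on with
    | zero => simp
    | tmul a b => simp
    | add a b ha hb => simp only [map_add, ha, hb]

theorem pow_id_eq_one_spec (G : Over (Spec (CommRingCat.of R))) [GrpObj G] [IsCommMonObj G]
    [IsFinite G.hom] [Flat G.hom] [LocallyOfFinitePresentation G.hom]
    (n : ℕ) (hn : ∀ s, Scheme.Hom.finrank G.hom s = n) : (𝟙 G) ^ n = 1 := by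
  have haff : IsAffine G.left := isAffine_of_isAffineHom G.hom
  obtain ⟨H', ⟨e⟩⟩ := (essImage_hopfSpec (R := CommRingCat.of R) (G := Grp.mk G)).2 haff
  obtain ⟨H, rfl⟩ : ∃ H, Opposite.op H = H' := ⟨H'.unop, rfl⟩
  let P : Over (Spec (CommRingCat.of R)) :=
    (Spec (CommRingCat.of (H : Type u))).asOver (Spec (CommRingCat.of R))
  let i : P ≅ G := (Grp.forget _).mapIso e
  haveI : IsMonHom i.hom := e.hom.hom.isMonHom_hom
  haveI : Coalgebra.IsCocomm R (H : Type u) := isCocomm_of_commGroup fun T _ _ a b => by
    apply Spec.mapMulEquiv.injective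
    rw [map_mul, map_mul]
    apply (cancel_mono i.hom).1
    simp only [MonObj.mul_comp]
    exact mul_comm _ _
  haveI : IsFinite (Spec.map (CommRingCat.ofHom (algebraMap R H))) := by
    have : IsFinite P.hom := by rw [← Over.w i.hom]; infer_instance
    exact this
  haveI : Flat (Spec.map (CommRingCat.ofHom (algebraMap R H))) := by
    have : Flat P.hom := by rw [← Over.w i.hom]; infer_instance
    exact this
  haveI : LocallyOfFinitePresentation (Spec.map (CommRingCat.ofHom (algebraMap R H))) := by
    have : LocallyOfFinitePresentation P.hom := by rw [← Over.w i.hom]; infer_instance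
    exact this
  haveI : Module.Finite R H := RingHom.finite_algebraMap.1 ((IsFinite.SpecMap_iff _).1 ‹_›)
  haveI : Module.Flat R H := (RingHom.flat_algebraMap_iff).1 ((Flat.SpecMap_iff).1 ‹_›)
  haveI : Algebra.FinitePresentation R H := RingHom.finitePresentation_algebraMap.1
    ((HasRingHomProperty.Spec_iff (P := @LocallyOfFinitePresentation)).1 ‹_›)
  haveI : Module.FinitePresentation R H := Module.FinitePresentation.of_finite_of_finitePresentation R H
  haveI : Module.Projective R H := Module.Flat.projective_of_finitePresentation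
  have hrk : ∀ q : PrimeSpectrum R, Module.rankAtStalk (R := R) (H : Type u) q = n := fun q => by
    rw [← Scheme.Hom.finrank_SpecMap_algebraMap]
    have : P.hom = i.hom.left ≫ G.hom := (Over.w i.hom).symm
    change Scheme.Hom.finrank P.hom q = n
    rw [this, Scheme.Hom.finrank_comp_left_of_isIso]
    exact hn q
  have key := congrArg (Spec.mapMulEquiv (R := R) (S := (H : Type u)) (T := (H : Type u)))
    (GrothLib.Hopf.Deligne.convPow_rank n hrk)
  rw [map_pow, map_one] at key
  have hid : Spec.mapMulEquiv (R := R) (S := (H : Type u)) (T := (H : Type u))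
      (WithConv.toConv (AlgHom.id R H)) = 𝟙 P := by
    ext1
    exact Spec.map_id _
  rw [hid] at key
  rw [← cancel_epi i.hom]
  calc i.hom ≫ (𝟙 G) ^ n = (i.hom ≫ 𝟙 G) ^ n := MonObj.comp_pow _ _ _
    _ = (𝟙 P ≫ i.hom) ^ n := by rw [Category.comp_id, Category.id_comp]
    _ = (𝟙 P ^ n) ≫ i.hom := (MonObj.pow_comp _ _ _).symm
    _ = (1 : P ⟶ P) ≫ i.hom := congrArg (· ≫ i.hom) key
    _ = i.hom ≫ 1 := by rw [MonObj.one_comp, MonObj.comp_one]

theorem fst_comp_pow_id {S : Scheme.{u}} (G : Over S) [GrpObj G] [IsCommMonObj G]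
    [IsFinite G.hom] [Flat G.hom] [LocallyOfFinitePresentation G.hom]
    (n : ℕ) (hn : ∀ s, Scheme.Hom.finrank G.hom s = n) {C : CommRingCat.{u}} (j : Spec C ⟶ S) :
    pullback.fst G.hom j ≫ ((𝟙 G) ^ n : G ⟶ G).left = pullback.fst G.hom j ≫ (1 : G ⟶ G).left := by
  haveI : IsFinite (Red.bc j G).hom := (inferInstance : IsFinite (pullback.snd G.hom j))
  haveI : Flat (Red.bc j G).hom := (inferInstance : Flat (pullback.snd G.hom j))
  haveI : LocallyOfFinitePresentation (Red.bc j G).hom := (inferInstance : LocallyOfFinitePresentation (pullback.snd G.hom j))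
  haveI : IsCommMonObj (Red.bc j G) := inferInstanceAs (IsCommMonObj ((Over.pullback j).obj G))
  have h1 : (𝟙 (Red.bc j G)) ^ n = 1 :=
    pow_id_eq_one_spec (R := _) (Red.bc j G) n fun s =>
      (Scheme.Hom.finrank_pullback_snd _ _ _).trans (hn _)
  let c : (Over.map j).obj (Red.bc j G) ⟶ G := (Over.mapPullbackAdj j).counit.app G
  let E : ((Over.map j).obj (Red.bc j G) ⟶ G) ≃* (Red.bc j G ⟶ Red.bc j G) :=
    { toEquiv := (Over.mapPullbackAdj j).homEquiv _ _
      map_mul' := fun a b => by
        change (Over.mapPullbackAdj j).homEquiv _ _ (a * b) = _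
        simp only [Adjunction.homEquiv_unit, Functor.map_mul, MonObj.comp_mul]
        rfl }
  have hc : E c = 𝟙 _ := (Over.mapPullbackAdj j).right_triangle_components G
  have h2 : c ^ n = 1 := E.injective (by rw [map_pow, hc, h1, map_one])
  have h3 : c ≫ (𝟙 G) ^ n = c ≫ 1 := by
    rw [MonObj.comp_pow, Category.comp_id, h2, MonObj.comp_one]
  have h4 := congrArg CommaMorphism.left h3
  exact h4

theorem pow_id_eq_one {S : Scheme.{u}} (G : Over S) [GrpObj G] [IsCommMonObj G]
    [IsFinite G.hom] [Flat G.hom] [LocallyOfFinitePresentation G.hom]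
    (n : ℕ) (hn : ∀ s, Scheme.Hom.finrank G.hom s = n) : (𝟙 G) ^ n = 1 :=
  Over.OverMorphism.ext (Scheme.Cover.hom_ext (S.affineCover.pullback₁ G.hom) _ _
    fun x => fst_comp_pow_id G n hn (S.affineCover.f x))

/-- Deligne: every point of a commutative finite locally free group scheme of rank `n` is killed by `n`. -/
theorem pow_eq_one {S : Scheme.{u}} (G : Over S) [GrpObj G] [IsCommMonObj G]
    [IsFinite G.hom] [Flat G.hom] [LocallyOfFinitePresentation G.hom]
    (n : ℕ) (hn : ∀ s, Scheme.Hom.finrank G.hom s = n) {T : Over S} (g : T ⟶ G) : g ^ n = 1 := by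
  rw [← MonObj.comp_one g, ← pow_id_eq_one G n hn, MonObj.comp_pow, Category.comp_id]

end GrothLib.GrpDeligne
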